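import Groth.Agent.FibreTwist.Slice
import Groth.Agent.TopCohPn.Main
import Groth.Agent.AmpleVan.RelVanish
import Groth.Agent.H9Misc.RelExtTwistVanish
import Groth.Agent.Nakai.Section
import Groth.Agent.QCoh.AnnIdeal
import Groth.Agent.KZ.Localization
import Groth.Agent.ZClosLib.CohDescent
import Groth.Agent.H23.PicMul

/-!
# Finiteness of the support over the base and vanishing of the higher direct images of twists
-/

set_option autoImplicit false
set_option linter.style.haveILetI false
set_option linter.unusedSectionVars false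
set_option backward.isDefEq.respectTransparency false
set_option backward.isDefEq.respectTransparency.types false
set_option maxHeartbeats 1000000

universe u

open CategoryTheory CategoryTheory.Limits AlgebraicGeometry TopologicalSpace Opposite
open Groth.Agent.H23 Groth.Agent.H23.PicMul

attribute [local instance] PicMul.clMonoid

noncomputable section

namespace Groth.Agent.FibreTwist

open Groth.Agent

section Gen

variable {Z X : Scheme.{u}}

theorem support_restrict {M : Z.Modules} (hM : Coh.IsCoh M) (W : Z.Opens) :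
    CohB1.support (M.restrict W.ι) = W.ι ⁻¹' CohB1.support M := by
  rw [← QCoh.support_pullback W.ι hM.1 hM.2]
  exact QCoh.support_iso ((Scheme.Modules.restrictFunctorIsoPullback W.ι).app M) (QCoh.isQCoh_restrict W.ι hM.1)

/-- Vanishing over an open with a small affine cover of the support. -/
theorem subsingleton_of_cover {W : Z.Opens} [NoetherianSpace W.toScheme] [W.toScheme.IsSeparated] {t : ℕ}
    (A : Fin t → Z.Opens) (hA : ∀ i, IsAffineOpen (A i) ∧ A i ≤ W) {C : Set Z}
    (hcov : C ∩ (W : Set Z) ⊆ ((⨆ i, A i : Z.Opens) : Set Z)) {M : W.toScheme.Modules} (hM : Coh.IsQCoh M)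
    (hft : CohB1.IsFT M) (hsupp : CohB1.support M ⊆ W.ι ⁻¹' C) {q : ℕ} (hq : t ≤ q) (hq0 : 0 < q) :
    Subsingleton (Coh.HH W.toScheme M q) := by
  refine SupportVanish.subsingleton_HH_of_cover_support hM (QCoh.isClosed_support_of_isFT hM hft)
    (fun V V' hV hV' => hV.inf hV') t (fun i => W.ι ⁻¹ᵁ A i) (fun i => ?_) (fun z hz => ?_) q hq hq0
  · exact (hA i).1.preimage_of_isOpenImmersion W.ι (by rw [Scheme.Opens.opensRange_ι]; exact (hA i).2)
  · have h : W.ι z ∈ (⨆ i, A i : Z.Opens) := hcov ⟨hsupp hz, z.2⟩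
    obtain ⟨i, hi⟩ := Opens.mem_iSup.1 h
    exact Opens.mem_iSup.2 ⟨i, hi⟩

/-- The cohomology over an affine open of a module with zero higher direct image. -/
theorem subsingleton_of_isZero_Rpush (f : Z ⟶ X) [QuasiCompact f] [QuasiSeparated f]
    [HasInjectiveResolutions Z.Modules] {M : Z.Modules} (hM : Coh.IsQCoh M) {V : X.Opens} (hV : IsAffineOpen V)
    {p : ℕ} (hz : IsZero ((Coh.Rpush f p).obj M)) :
    Subsingleton (Coh.HH (f ⁻¹ᵁ V).toScheme (M.restrict (f ⁻¹ᵁ V).ι) p) := by
  obtain ⟨e⟩ := QCoh.nonempty_sections_HH (f := f) hM hV p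
  haveI : Subsingleton Γ((Coh.Rpush f p).obj M, V) :=
    ⟨fun a b => by
      have h1 : ∀ x : Γ((Coh.Rpush f p).obj M, V), x = 0 := fun x =>
        congr(($((IsZero.iff_id_eq_zero _).1 hz)).app V x)
      rw [h1 a, h1 b]⟩
  exact e.symm.toEquiv.subsingleton

/-- Vanishing of the last term of a short exact sequence. -/
theorem subsingleton_right {S : ShortComplex Z.Modules} (hS : S.ShortExact) (n : ℕ)
    (h₂ : Subsingleton (Coh.HH Z S.X₂ n)) (h₁ : Subsingleton (Coh.HH Z S.X₁ (n + 1))) :
    Subsingleton (Coh.HH Z S.X₃ n) := by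
  have hT := QCoh.toAb_shortExact hS
  refine ⟨fun a b => ?_⟩
  obtain ⟨a', rfl⟩ := Abelian.Ext.covariant_sequence_exact₃ _ hT a rfl (h₁.elim _ _)
  obtain ⟨b', rfl⟩ := Abelian.Ext.covariant_sequence_exact₃ _ hT b rfl (h₁.elim _ _)
  rw [show a' = b' from h₂.elim _ _]

end Gen

variable {k : Type u} [Field k] [IsAlgClosed k] {n : ℕ} {X : Scheme.{u}} (f : X ⟶ Spec (CommRingCat.of k))
  [IsProper f]

local notation "PX" => pullback (CohB1.ProjSpace.toSpec n k) f

/-- The twist of a module on `P^n × X`. -/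
abbrev twistX (F : (pullback (CohB1.ProjSpace.toSpec n k) f).Modules) (m : ℤ) :
    (pullback (CohB1.ProjSpace.toSpec n k) f).Modules :=
  CohB1.tensorMod F ((Scheme.Modules.pullback (pullback.fst (CohB1.ProjSpace.toSpec n k) f)).obj
    (Twist.twistProjSpace n k m))

theorem isInvertible_twistX (m : ℤ) : PicF.IsInvertible
    ((Scheme.Modules.pullback (pullback.fst (CohB1.ProjSpace.toSpec n k) f)).obj (Twist.twistProjSpace n k m)) :=
  PicClLib.isInvertible_pullback _ (PnCoh.Finite.isInvertible_twist (ProjRegular.coords k n) ProjRegular.coords_mem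
    ProjRegular.coords_cover m)

variable {F : (pullback (CohB1.ProjSpace.toSpec n k) f).Modules} (hF : Coh.IsCoh F)

include hF in
/-- Finite fibres of the support give vanishing of the higher direct images of all twists. -/
theorem isZero_Rpush_of_fibres [HasInjectiveResolutions (pullback (CohB1.ProjSpace.toSpec n k) f).Modules]
    (h : ∀ (x : X) (hx : IsClosed ({x} : Set X)),
      topologicalKrullDim (slice (n := n) f x hx ⁻¹' CohB1.support F) ≤ ((0 : ℕ) : WithBot ℕ∞))
    (m : ℤ) (i : ℕ) (hi : 0 < i) :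
    IsZero ((Coh.Rpush (pullback.snd (CohB1.ProjSpace.toSpec n k) f) i).obj (twistX f F m)) := by
  haveI : IsProper (CohB1.ProjSpace.toSpec n k) := PnCoh.Chow.isProper_toSpec n _
  let p := pullback.snd (CohB1.ProjSpace.toSpec n k) f
  haveI : IsLocallyNoetherian (pullback (CohB1.ProjSpace.toSpec n k) f) :=
    LocallyOfFiniteType.isLocallyNoetherian (p ≫ f)
  haveI : JacobsonSpace X := LocallyOfFiniteType.jacobsonSpace f
  have hM : Coh.IsCoh (twistX f F m) :=
    AmpleVan.isCoh_tensor hF (AmpleVan.isCoh_invertible (isInvertible_twistX f m))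
  have hC : IsClosed (CohB1.support F) := QCoh.isClosed_support_of_isFT hF.1 hF.2
  choose U hU hxU hcov using fun x : closedPoints X => exists_affine_cover f hC x.1 x.2 (h x.1 x.2)
  obtain ⟨i, rfl⟩ : ∃ j, i = j + 1 := ⟨i - 1, by omega⟩
  refine H9Misc.RelExtTwistVanish.isZero_Rpush_of_RpushAb p _ i
    (AmpleVan.RelVanish.isZero_RpushAb_of_cover p hM.1 {V | ∃ x, V.1 ≤ U x} (fun y => ?_) (fun V hV q => ?_)
      (i + 1) hi)
  · obtain ⟨z, hzy, hz⟩ := nonempty_inter_closedPoints (X := X) (Z := closure {y}) ⟨y, subset_closure rfl⟩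
      isClosed_closure.isLocallyClosed
    exact ⟨⟨U ⟨z, hz⟩, hU _⟩, ⟨⟨z, hz⟩, le_rfl⟩,
      (specializes_iff_mem_closure.2 hzy).mem_open (U ⟨z, hz⟩).isOpen (hxU ⟨z, hz⟩)⟩
  · obtain ⟨x, hx⟩ := hV
    obtain ⟨t, A, ht, hA, hsub⟩ := hcov x V.1 V.2 hx
    let W : (pullback (CohB1.ProjSpace.toSpec n k) f).Opens := p ⁻¹ᵁ V.1
    haveI : CompactSpace W.toScheme := isCompact_iff_compactSpace.1 (p.isCompact_preimage V.2.isCompact)
    haveI : IsNoetherian W.toScheme := ⟨⟩
    haveI : IsSeparated (p ≫ f) := inferInstance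
    haveI : W.toScheme.IsSeparated := ⟨by
      rw [← Limits.terminal.comp_from (W.ι ≫ p ≫ f)]
      infer_instance⟩
    have hMW := KZ.Localization.isCoh_restrict W.ι hM
    refine subsingleton_of_cover (W := W) A hA hsub hMW.1 hMW.2 ?_ (by omega) (Nat.succ_pos q)
    rw [support_restrict hM]
    exact Set.preimage_mono (HilbPoly.support_tensor_subset _ _)

include hF in
/-- A positive-dimensional fibre of the support gives a twist with nonzero higher direct image. -/
theorem fibre_dim_le_zero [HasInjectiveResolutions (pullback (CohB1.ProjSpace.toSpec n k) f).Modules]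
    (h : ∀ (m : ℤ) (i : ℕ), 0 < i →
      IsZero ((Coh.Rpush (pullback.snd (CohB1.ProjSpace.toSpec n k) f) i).obj (twistX f F m)))
    (x : X) (hx : IsClosed ({x} : Set X)) :
    topologicalKrullDim (slice (n := n) f x hx ⁻¹' CohB1.support F) ≤ ((0 : ℕ) : WithBot ℕ∞) := by
  rcases dim_cases (slice (n := n) f x hx ⁻¹' CohB1.support F) with he | ⟨a, ha⟩
  · rw [he]
    haveI : IsEmpty (IrreducibleCloseds (∅ : Set (CohB1.ProjSpace n k))) :=
      ⟨fun s => s.2.1.ne_empty (Set.eq_empty_of_isEmpty s.1)⟩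
    exact (Order.krullDim_eq_bot_iff.2 ‹_›).trans_le bot_le
  rcases Nat.eq_zero_or_pos a with rfl | hapos
  · exact ha.le
  exfalso
  haveI : Infinite k := IsAlgClosed.instInfinite
  haveI : IsProper (CohB1.ProjSpace.toSpec n k) := PnCoh.Chow.isProper_toSpec n _
  let p := pullback.snd (CohB1.ProjSpace.toSpec n k) f
  let q₁ := pullback.fst (CohB1.ProjSpace.toSpec n k) f
  haveI : IsLocallyNoetherian (pullback (CohB1.ProjSpace.toSpec n k) f) :=
    LocallyOfFiniteType.isLocallyNoetherian (p ≫ f)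
  let s := slice (n := n) f x hx
  haveI : IsClosedImmersion s := isClosedImmersion_slice f x hx
  let G := (Scheme.Modules.pullback s).obj F
  have hG : Coh.IsCoh G := ZClosLib.isCoh_pullback s hF
  obtain ⟨m, hm⟩ := TopCohPn.exists_nontrivial_top G hG hapos (by
    rw [QCoh.support_pullback s hF.1 hF.2]
    exact ha)
  have hC : IsClosed (CohB1.support F) := QCoh.isClosed_support_of_isFT hF.1 hF.2
  obtain ⟨U, hU, hxU, hcov⟩ := exists_affine_cover f hC x hx ha.le
  obtain ⟨t, A, ht, hA, hsub⟩ := hcov U hU le_rfl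
  let W : (pullback (CohB1.ProjSpace.toSpec n k) f).Opens := p ⁻¹ᵁ U
  haveI : CompactSpace W.toScheme := isCompact_iff_compactSpace.1 (p.isCompact_preimage hU.isCompact)
  haveI : IsNoetherian W.toScheme := ⟨⟩
  haveI : W.toScheme.IsSeparated := ⟨by
    rw [← Limits.terminal.comp_from (W.ι ≫ p ≫ f)]
    infer_instance⟩
  have hM : Coh.IsCoh (twistX f F m) :=
    AmpleVan.isCoh_tensor hF (AmpleVan.isCoh_invertible (isInvertible_twistX f m))
  let M := (twistX f F m).restrict W.ι
  have hMW : Coh.IsCoh M := KZ.Localization.isCoh_restrict W.ι hM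
  have hrange : Set.range s ⊆ Set.range W.ι := by
    rw [Scheme.Opens.range_ι, range_slice]
    rintro z (hz : p z = x)
    show p z ∈ U
    rwa [hz]
  let s' := IsOpenImmersion.lift W.ι s hrange
  have hs' : s' ≫ W.ι = s := IsOpenImmersion.lift_fac _ _ _
  haveI : IsClosedImmersion (s' ≫ W.ι) := by rw [hs']; infer_instance
  haveI : IsClosedImmersion s' := IsClosedImmersion.of_comp s' W.ι
  let η := (Scheme.Modules.pullbackPushforwardAdjunction s').unit.app M
  haveI : Epi η := Nakai.epi_unit s' hMW.1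
  have hP : Coh.IsCoh ((Scheme.Modules.pushforward s').obj ((Scheme.Modules.pullback s').obj M)) :=
    QCoh.isCoh_pushforward_finite s' (ZClosLib.isCoh_pullback s' hMW)
  have hK : Coh.IsCoh (kernel η) := QCoh.isCoh_kernel hMW hP η
  have hS : (ShortComplex.mk (kernel.ι η) η (kernel.condition η)).ShortExact :=
    .mk' (ShortComplex.exact_of_f_is_kernel _ (kernelIsKernel η)) inferInstance ‹Epi η›
  have h2 : Subsingleton (Coh.HH W.toScheme M a) := subsingleton_of_isZero_Rpush p hM.1 hU (h m a hapos)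
  have h1 : Subsingleton (Coh.HH W.toScheme (kernel η) (a + 1)) := by
    refine subsingleton_of_cover (W := W) A hA hsub hK.1 hK.2 ?_ ht (Nat.succ_pos a)
    refine (QCoh.mem_support_of_mono hK.1 hMW.1 (kernel.ι η)).trans ?_
    rw [support_restrict hM]
    exact Set.preimage_mono (HilbPoly.support_tensor_subset _ _)
  have h3 := subsingleton_right hS a h2 h1
  obtain ⟨e₁⟩ := QCoh.HH_push_of_isAffineHom s' (QCoh.isQCoh_pullback s' hMW.1) a
  have h4 : Subsingleton (Coh.HH (CohB1.ProjSpace n k) ((Scheme.Modules.pullback s').obj M) a) := by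
    haveI : Subsingleton (Coh.HH W.toScheme ((Coh.push s').obj ((Scheme.Modules.pullback s').obj M)) a) := h3
    exact e₁.toEquiv.subsingleton
  have e0 : PicF.cl ((Scheme.Modules.pullback s').obj M) =
      PicF.cl (CohB1.tensorMod G (Twist.twistProjSpace n k m)) := by
    let e : (Scheme.Modules.pullback s').obj M ≅ (Scheme.Modules.pullback s).obj (twistX f F m) :=
      (Scheme.Modules.pullback s').mapIso ((Scheme.Modules.restrictFunctorIsoPullback W.ι).app _) ≪≫
        (Scheme.Modules.pullbackComp s' W.ι).app _ ≪≫ (Scheme.Modules.pullbackCongr hs').app _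
    let e' : (Scheme.Modules.pullback s).obj ((Scheme.Modules.pullback q₁).obj (Twist.twistProjSpace n k m)) ≅
        Twist.twistProjSpace n k m :=
      (Scheme.Modules.pullbackComp s q₁).app _ ≪≫ (Scheme.Modules.pullbackCongr (slice_fst f x hx)).app _ ≪≫
        (Scheme.Modules.pullbackId _).app _
    obtain ⟨ep⟩ := PicMul.pull s F ((Scheme.Modules.pullback q₁).obj (Twist.twistProjSpace n k m))
    rw [cl_eq_iff.2 ⟨e ≪≫ ep⟩, cl_tensor, cl_tensor, cl_eq_iff.2 ⟨e'⟩]
  obtain ⟨e2⟩ := cl_eq_iff.1 e0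
  exact not_nontrivial_iff_subsingleton.2 (QCoh.subsingleton_HH_of_iso e2 a h4) hm

end Groth.Agent.FibreTwist
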