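import Groth.Prelude.Def_CohB1
import Groth.Agent.LinProj5.Basic
import Groth.Agent.Lib.SupportVanish
import Groth.Agent.Approx.Immersion
import Groth.Agent.H23.RedSub
import Groth.Agent.PnCoh.Chow.Proper
import Groth.Agent.S10829

/-!
# Slices of `P^n × X` at closed points and affine covers of the support near them
-/

set_option autoImplicit false
set_option linter.style.haveILetI false
set_option linter.unusedSectionVars false
set_option backward.isDefEq.respectTransparency false
set_option backward.isDefEq.respectTransparency.types false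
set_option maxHeartbeats 800000

universe u

open CategoryTheory CategoryTheory.Limits AlgebraicGeometry TopologicalSpace Opposite

noncomputable section

namespace Groth.Agent.FibreTwist

open Groth.Agent

variable {k : Type u} [Field k] [IsAlgClosed k] {n : ℕ} {X : Scheme.{u}} (f : X ⟶ Spec (CommRingCat.of k))
  [LocallyOfFiniteType f]

/-- The slice of `P^n × X` at a closed point. -/
def slice (x : X) (hx : IsClosed ({x} : Set X)) :
    CohB1.ProjSpace n k ⟶ pullback (CohB1.ProjSpace.toSpec n k) f :=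
  pullback.lift (𝟙 _) (CohB1.ProjSpace.toSpec n k ≫ pointOfClosedPoint f x hx)
    (by simp [pointOfClosedPoint_comp])

@[reassoc (attr := simp)]
theorem slice_fst (x : X) (hx : IsClosed ({x} : Set X)) :
    slice (n := n) f x hx ≫ pullback.fst _ _ = 𝟙 _ :=
  pullback.lift_fst _ _ _

theorem isPullback_slice (x : X) (hx : IsClosed ({x} : Set X)) :
    IsPullback (slice (n := n) f x hx) (CohB1.ProjSpace.toSpec n k)
      (pullback.snd (CohB1.ProjSpace.toSpec n k) f) (pointOfClosedPoint f x hx) := by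
  have hid : IsPullback (slice (n := n) f x hx ≫ pullback.fst (CohB1.ProjSpace.toSpec n k) f)
      (CohB1.ProjSpace.toSpec n k) (CohB1.ProjSpace.toSpec n k) (pointOfClosedPoint f x hx ≫ f) := by
    rw [slice_fst, pointOfClosedPoint_comp]
    exact IsPullback.of_horiz_isIso ⟨by simp⟩
  exact IsPullback.of_right hid (pullback.lift_snd _ _ _) (IsPullback.of_hasPullback _ _)

theorem range_slice (x : X) (hx : IsClosed ({x} : Set X)) :
    Set.range (slice (n := n) f x hx) = pullback.snd (CohB1.ProjSpace.toSpec n k) f ⁻¹' {x} := by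
  have h := isPullback_slice (n := n) f x hx
  rw [← h.isoPullback_hom_fst, Scheme.Hom.comp_base, TopCat.coe_comp, Set.range_comp,
    Set.range_eq_univ.2 h.isoPullback.hom.surjective, Set.image_univ]
  erw [Scheme.Pullback.range_fst]
  congr 1
  ext y
  exact ⟨fun ⟨a, ha⟩ => by rw [← ha]; exact pointOfClosedPoint_apply f x hx a,
    fun hy => ⟨IsLocalRing.closedPoint k, (pointOfClosedPoint_apply f x hx _).trans hy.symm⟩⟩

theorem isClosedImmersion_slice [IsSeparated f] (x : X) (hx : IsClosed ({x} : Set X)) :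
    IsClosedImmersion (slice (n := n) f x hx) := by
  haveI : IsClosedImmersion (pointOfClosedPoint f x hx) :=
    isClosedImmersion_of_comp_eq_id f _ (pointOfClosedPoint_comp f x hx)
  exact MorphismProperty.of_isPullback (isPullback_slice (n := n) f x hx).flip inferInstance

theorem topologicalKrullDim_subset_pn (T : Set (CohB1.ProjSpace n k)) :
    topologicalKrullDim T ≤ (n : WithBot ℕ∞) :=
  (Topology.IsInducing.subtypeVal.topologicalKrullDim_le).trans (S10829.result k n).le

theorem dim_cases (T : Set (CohB1.ProjSpace n k)) :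
    T = ∅ ∨ ∃ a : ℕ, topologicalKrullDim T = (a : WithBot ℕ∞) := by
  rcases hh : topologicalKrullDim T with _ | _ | a
  · refine Or.inl (Set.eq_empty_iff_forall_notMem.2 fun t ht => ?_)
    haveI : Nonempty (IrreducibleCloseds T) := ⟨⟨closure {⟨t, ht⟩}, isIrreducible_singleton.closure, isClosed_closure⟩⟩
    have := Order.krullDim_nonneg (α := IrreducibleCloseds T)
    rw [show Order.krullDim (IrreducibleCloseds T) = _ from hh] at this
    exact absurd this (not_le_of_gt (WithBot.bot_lt_coe _))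
  · have := topologicalKrullDim_subset_pn T
    rw [hh] at this
    exact absurd this (not_le_of_gt (WithBot.coe_lt_coe.2 (ENat.coe_lt_top n)))
  · exact Or.inr ⟨a, rfl⟩

/-- Linear forms without common zero on a closed subset of projective space. -/
theorem exists_cover_closed {a : ℕ} {T : Set (CohB1.ProjSpace n k)} (hT : IsClosed T)
    (hd : topologicalKrullDim T ≤ (a : WithBot ℕ∞)) :
    ∃ (t : ℕ) (l : Fin t → MvPolynomial (Fin (n + 1)) k), t ≤ a + 1 ∧ (∀ i, (l i).IsHomogeneous 1) ∧
      ∀ y ∈ T, ∃ i, y ∈ LinProj5.DD (l i) := by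
  haveI : Infinite k := IsAlgClosed.instInfinite
  rcases dim_cases T with rfl | ⟨e, he⟩
  · exact ⟨0, Fin.elim0, Nat.zero_le _, fun i => i.elim0, fun y hy => absurd hy (Set.notMem_empty _)⟩
  let J := Scheme.IdealSheafData.vanishingIdeal (⟨T, hT⟩ : Closeds (CohB1.ProjSpace n k))
  have hrange : Set.range J.subschemeι = T := H23.RedSub.range_vanishingIdeal _
  haveI hN : IsNoetherian (Proj (CohB1.polyGrading n k)) := Proj16.isNoetherian_proj _
  haveI : IsNoetherian (CohB1.ProjSpace n k) := hN
  haveI : NoetherianSpace J.subscheme := J.subschemeι.isEmbedding.isInducing.noetherianSpace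
  have hdJ : topologicalKrullDim J.subscheme = (e : WithBot ℕ∞) := by
    rw [IsHomeomorph.topologicalKrullDim_eq _
      (J.subschemeι.isEmbedding.toHomeomorph.trans (Homeomorph.setCongr hrange)).isHomeomorph]
    exact he
  obtain ⟨l, hl, hcov⟩ := LinProj5.exists_linear_cover J.subschemeι hdJ
  rw [he] at hd
  refine ⟨e + 1, l, Nat.succ_le_succ (by exact_mod_cast hd), hl, fun y hy => ?_⟩
  obtain ⟨z, rfl⟩ := hrange.ge hy
  exact hcov z

/-- Near a closed point, a closed subset of `P^n × X` is covered by few affine opens. -/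
theorem exists_affine_cover [UniversallyClosed (CohB1.ProjSpace.toSpec n k)]
    {C : Set ↥(pullback (CohB1.ProjSpace.toSpec n k) f)} (hC : IsClosed C) (x : X) (hx : IsClosed ({x} : Set X))
    {a : ℕ} (ha : topologicalKrullDim (slice (n := n) f x hx ⁻¹' C) ≤ (a : WithBot ℕ∞)) :
    ∃ U : X.Opens, IsAffineOpen U ∧ x ∈ U ∧ ∀ V : X.Opens, IsAffineOpen V → V ≤ U →
      ∃ (t : ℕ) (A : Fin t → (pullback (CohB1.ProjSpace.toSpec n k) f).Opens), t ≤ a + 1 ∧
        (∀ i, IsAffineOpen (A i) ∧ A i ≤ pullback.snd (CohB1.ProjSpace.toSpec n k) f ⁻¹ᵁ V) ∧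
        C ∩ (pullback.snd (CohB1.ProjSpace.toSpec n k) f ⁻¹' (V : Set X)) ⊆
          ((⨆ i, A i : (pullback (CohB1.ProjSpace.toSpec n k) f).Opens) : Set _) := by
  let p := pullback.snd (CohB1.ProjSpace.toSpec n k) f
  let q := pullback.fst (CohB1.ProjSpace.toSpec n k) f
  obtain ⟨t, l, ht, hl, hcov⟩ := exists_cover_closed (hC.preimage (slice (n := n) f x hx).continuous) ha
  let W : (pullback (CohB1.ProjSpace.toSpec n k) f).Opens := ⨆ i, q ⁻¹ᵁ LinProj5.DD (l i)
  have hbad : IsClosed (p '' (C \ W)) := p.isClosedMap _ (hC.sdiff W.isOpen)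
  have hxb : x ∈ (⟨(p '' (C \ W))ᶜ, hbad.isOpen_compl⟩ : X.Opens) := by
    rintro ⟨z, ⟨hzC, hzW⟩, hzx⟩
    obtain ⟨y, rfl⟩ : z ∈ Set.range (slice (n := n) f x hx) := by
      rw [range_slice]
      exact hzx
    obtain ⟨i, hi⟩ := hcov y hzC
    refine hzW (Opens.mem_iSup.2 ⟨i, ?_⟩)
    show q (slice f x hx y) ∈ LinProj5.DD (l i)
    rwa [← Scheme.Hom.comp_apply, slice_fst]
  obtain ⟨U, hU, hxU, hUle⟩ := exists_isAffineOpen_mem_and_subset hxb
  refine ⟨U, hU, hxU, fun V hV hVU => ⟨t, fun i => q ⁻¹ᵁ LinProj5.DD (l i) ⊓ p ⁻¹ᵁ V, ht,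
    fun i => ⟨?_, inf_le_right⟩, ?_⟩⟩
  · exact Approx.isAffineOpen_fst_inf_snd _ _ (LinProj5.isAffineOpen_DD (hl i) Nat.one_pos) hV
      (isAffineOpen_top (Spec (CommRingCat.of k))) (fun _ _ => trivial) (fun _ _ => trivial)
  · rintro z ⟨hzC, hzV⟩
    have hzW : z ∈ W := by
      by_contra h
      exact hUle (hVU hzV) ⟨z, ⟨hzC, h⟩, rfl⟩
    obtain ⟨i, hi⟩ := Opens.mem_iSup.1 hzW
    exact Opens.mem_iSup.2 ⟨i, hi, hzV⟩

end Groth.Agent.FibreTwist
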